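import Cfsg.Agent.H439.CY.Defs

/-!
# S4829, classical groups, linear type: uniqueness of the invariant opposite subspace (helper394)

`oppUni` : the target `OppUni` of `H439.CY.Defs`.
-/

set_option autoImplicit false
set_option linter.style.haveILetI false

open Module Polynomial Submodule Cfsg
open Cfsg.Agent.H2.Pol Cfsg.Agent.H646.BR Cfsg.Agent.H439.CY

namespace Cfsg.Agent.H394.CY

section

variable {F V : Type*} [Field F] [AddCommGroup V] [Module F V] [FiniteDimensional F V] {Φ : Pol F V}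

/-- the pairing of opposite subspaces is nondegenerate on the other side -/
theorem opp_symm (hnd : ∀ U : Submodule F V, Φ.TI U → finrank F (Φ.perp U) + finrank F U = finrank F V)
    {U U' : Submodule F V} (hU' : Φ.TI U') (hd : finrank F U' = finrank F U) (h : Opp Φ U U') {w : V} (hw : w ∈ U')
    (hz : ∀ u ∈ U, Φ.L w u = 0) : w = 0 := by
  have h1 := hnd U' hU'
  have h2 := Submodule.finrank_sup_add_finrank_inf_eq U (Φ.perp U')
  rw [show U ⊓ Φ.perp U' = ⊥ from h, finrank_bot, add_zero] at h2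
  have h3 : U ⊔ Φ.perp U' = ⊤ := Submodule.eq_top_of_finrank_eq (by omega)
  have h4 : ∀ v, Φ.L w v = 0 := by
    intro v
    obtain ⟨u, hu, x, hx, rfl⟩ := mem_sup.1 (show v ∈ U ⊔ Φ.perp U' by rw [h3]; trivial)
    rw [map_add, hz u hu, zero_add]
    exact hx w hw
  by_contra hw0
  have h5 : Φ.TI (F ∙ w) := hU'.mono ((span_singleton_le_iff_mem _ _).2 hw)
  have h6 := hnd _ h5
  have h7 : Φ.perp (F ∙ w) = ⊤ := by
    rw [eq_top_iff]
    intro v _ x hx
    obtain ⟨c, rfl⟩ := mem_span_singleton.1 hx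
    apply Φ.refl
    rw [map_smul, Φ.refl v w (h4 v), smul_zero]
  rw [h7, finrank_top, finrank_span_singleton hw0] at h6
  omega

end

section

variable {p : ℕ} [Fact p.Prime] {F V G : Type*} [Field F] [Fintype F] [AddCommGroup V] [Module F V]
  [FiniteDimensional F V] [Group G] {Φ : Pol F V} {ρ : G →* (V ≃ₗ[F] V)}

omit [Fact p.Prime] in
/-- two opposites of `U` are isomorphic (both are dual to `U`) -/
theorem exists_theta (hL : LinType p Φ ρ) {P : Subgroup G} {U U' U'' : Submodule F V} (hU' : Φ.TI U') (hU'' : Φ.TI U'')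
    (hPU : ∀ g ∈ P, mv ρ g U = U) (hPU'' : ∀ g ∈ P, mv ρ g U'' = U'')
    (h1 : finrank F U' = finrank F U) (h2 : finrank F U'' = finrank F U) (ho : Opp Φ U U') (ho' : Opp Φ U U'') :
    ∃ θ : U' →ₗ[F] V, LinearMap.range θ = U'' ∧ Function.Injective θ ∧
      ∀ g ∈ P, ∀ x y : U', (y : V) = ρ g (x : V) → θ y = ρ g (θ x) := by
  classical
  obtain ⟨r, j, s, hr, hcr, hs, hsp, hLs⟩ := hL.Ls
  haveI : Finite V := Module.finite_of_finite F
  haveI : Finite (Module.Dual F U) := Module.finite_of_finite F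
  -- the functional
  let A : V → Module.Dual F U := fun w => (Φ.L w).comp U.subtype
  have hA : ∀ (w : V) (u : U), A w u = Φ.L w u := fun _ _ => rfl
  have hsub : ∀ w w' u : V, Φ.L (w - w') u = Φ.L w u - Φ.L w' u := by
    intro w w' u
    have h3 := hL.La u (w - w') w'
    rw [sub_add_cancel] at h3
    rw [h3, add_sub_cancel_right]
  have hinj : ∀ {W : Submodule F V}, Φ.TI W → finrank F W = finrank F U → Opp Φ U W → ∀ w ∈ W, ∀ w' ∈ W,
      (∀ u ∈ U, Φ.L w u = Φ.L w' u) → w = w' := by
    intro W hW hfW hoW w hw w' hw' h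
    refine sub_eq_zero.1 (opp_symm hL.nondeg hW hfW hoW (W.sub_mem hw hw') fun u hu => ?_)
    rw [hsub, h u hu, sub_self]
  have hbij : Function.Bijective (fun w : U'' => A w) := by
    refine Function.Injective.bijective_of_nat_card_le ?_ ?_
    · intro w w' h
      refine Subtype.ext (hinj hU'' h2 ho' _ w.2 _ w'.2 fun u hu => ?_)
      exact LinearMap.congr_fun h ⟨u, hu⟩
    · rw [Module.natCard_eq_pow_finrank (K := F) (V := Module.Dual F U), Module.natCard_eq_pow_finrank (K := F) (V := U''),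
        Subspace.dual_finrank_eq, h2]
  choose t ht using fun x : U' => hbij.2 (A x)
  have ht' : ∀ (x : U') (u : V), u ∈ U → Φ.L (t x : V) u = Φ.L (x : V) u := fun x u hu =>
    LinearMap.congr_fun (ht x) ⟨u, hu⟩
  have huni : ∀ (x : U') (w : V), w ∈ U'' → (∀ u ∈ U, Φ.L w u = Φ.L (x : V) u) → (t x : V) = w := by
    intro x w hw h
    exact hinj hU'' h2 ho' _ (t x).2 _ hw fun u hu => by rw [ht' x u hu, h u hu]
  let θ : U' →ₗ[F] V :=
    { toFun := fun x => t x
      map_add' := fun x x' => huni _ _ (U''.add_mem (t x).2 (t x').2) fun u hu => by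
        rw [hL.La, ht' x u hu, ht' x' u hu, Submodule.coe_add, hL.La]
      map_smul' := fun a x => huni _ _ (U''.smul_mem a (t x).2) fun u hu => by
        rw [hLs, ht' x u hu, Submodule.coe_smul, hLs, RingHom.id_apply] }
  have hθ : ∀ x, θ x = t x := fun _ => rfl
  have hθi : Function.Injective θ := by
    intro x x' h
    refine Subtype.ext (hinj hU' h1 ho _ x.2 _ x'.2 fun u hu => ?_)
    rw [← ht' x u hu, ← ht' x' u hu]
    rw [hθ, hθ] at h
    rw [h]
  refine ⟨θ, ?_, hθi, ?_⟩
  · apply Submodule.eq_of_le_of_finrank_eq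
    · rintro _ ⟨x, rfl⟩
      exact (t x).2
    · rw [LinearMap.finrank_range_of_inj hθi, h1, h2]
  · intro g hg x y hxy
    refine huni y _ ?_ fun u hu => ?_
    · rw [← hPU'' g hg]
      exact mem_mv_of_mem (t x).2
    · rw [← hPU g hg] at hu
      obtain ⟨u0, hu0, rfl⟩ := hu
      rw [hxy]
      exact ((hL.pres g).1 _ _).trans ((ht' x u0 hu0).trans ((hL.pres g).1 _ _).symm)

/-- invariant subspaces of a fixed point free element of order `p` -/
theorem dvd_of_free {U : Type*} [AddCommGroup U] [Module F U] [FiniteDimensional F U] {z : U ≃ₗ[F] U} (hz : z ^ p = 1)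
    (hfix : ∀ x, z x = x → x = 0) {D : Submodule F U} (hD : ∀ x ∈ D, z x ∈ D) :
    orderOf ((Fintype.card F : ℕ) : ZMod p) ∣ finrank F D := by
  classical
  have hfV : Finite U := Module.finite_of_finite F
  have hfD : Fintype D := Fintype.ofFinite _
  let f : Function.End D := fun v => ⟨z v, hD v v.2⟩
  have hf : ∀ (n : ℕ) (v : D), ((f ^ n) v : U) = (z ^ n) v := by
    intro n
    induction n with
    | zero => intro v; rfl
    | succ n ih =>
      intro v
      rw [pow_succ, pow_succ]
      change ((f ^ n) (f v) : U) = (z ^ n) (z v)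
      rw [ih]
  have hfq : f ^ p ^ 1 = 1 := by
    funext v
    apply Subtype.ext
    rw [pow_one, hf, hz]
    rfl
  have h1 := Equiv.Perm.card_fixedPoints_modEq (p := p) (n := 1) hfq
  have h2 : Fintype.card (Function.fixedPoints f) = 1 := by
    rw [Fintype.card_eq_one_iff]
    refine ⟨⟨0, ?_⟩, ?_⟩
    · apply Subtype.ext
      change z ((0 : D) : U) = _
      rw [ZeroMemClass.coe_zero, map_zero]
    · rintro ⟨v, hv⟩
      apply Subtype.ext
      apply Subtype.ext
      exact hfix v (congrArg Subtype.val hv)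
  rw [h2, ← Nat.card_eq_fintype_card, Module.natCard_eq_pow_finrank (K := F) (V := D), Nat.card_eq_fintype_card] at h1
  rw [orderOf_dvd_iff_pow_eq_one]
  have h3 := (ZMod.natCast_eq_natCast_iff _ _ _).2 h1
  push_cast at h3
  exact h3

end

/-- **uniqueness of the invariant opposite subspace** -/
theorem oppUni : OppUni := by
  intro p hp F V G _ _ _ _ _ _ _ Φ ρ hL P U U' U'' hU hU' hU'' hPU hPU' hPU'' hd h1 h2 ho ho'
  by_contra hne
  obtain ⟨r, j, s, hr, hcr, hs, hsp, hLs⟩ := hL.Ls
  haveI := Fact.mk hr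
  have hpF : p.Coprime (Fintype.card F) := (Nat.Prime.coprime_iff_not_dvd hp.out).2 hL.notdvd
  have hp0 : (p : F) ≠ 0 := by
    obtain ⟨k, hrp, hk⟩ := FiniteField.card F r
    intro h
    have h1 : r ∣ p := (CharP.cast_eq_zero_iff F r p).1 h
    have h2 : r ∣ Nat.gcd p (Fintype.card F) := Nat.dvd_gcd h1 (by rw [hk]; exact dvd_pow_self r k.ne_zero)
    rw [hpF] at h2
    exact hrp.one_lt.ne' (Nat.dvd_one.1 h2)
  obtain ⟨f, hf, hfc⟩ := exists_irr F p
  have hfd : f.natDegree = orderOf ((Fintype.card F : ℕ) : ZMod p) := by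
    rw [natDegree_irr hf hfc hpF, ← orderOf_units, ZMod.coe_unitOfCoprime]
  have hd' : f.natDegree = finrank F U' := by rw [hfd, h1, hd]
  have hdpos : 0 < f.natDegree := hf.natDegree_pos
  obtain ⟨θ, hθ1, hθ2, hθ3⟩ := exists_theta hL (P := P) hU' hU'' hPU hPU'' h1 h2 ho ho'
  -- an element of `P` acting on `U'` with `f`
  obtain ⟨z, hzp, hz⟩ := exists_z (U := U') hf hfc hpF hd'.dvd
  obtain ⟨a, ha⟩ := exists_conj (sylT hL.witt P hU' hPU') hzp
  obtain ⟨g, hg, hgz⟩ := exists_of_mem_sylT hL.witt P hU' hPU' ha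
  have hz' := aeval_conj a z hz
  have hz'p : (a * z * a⁻¹) ^ p = 1 := by rw [conj_pow, hzp, mul_one, mul_inv_cancel]
  generalize a * z * a⁻¹ = z' at ha hgz hz' hz'p
  -- `U'` and `U''` are orthogonal
  have horth : Φ.Orth U' U'' := by
    have key := form_zero (U := U') hf hfc hpF hs hsp (z' : U' →ₗ[F] U') hz'
      (fun x y => Φ.L (θ y) (x : V))
      (fun x x' y => map_add _ _ _) (fun a x y => map_smul _ _ _)
      (fun x y y' => by
        change Φ.L (θ (y + y')) (x : V) = _
        rw [map_add, hL.La])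
      (fun a x y => by
        change Φ.L (θ (a • y)) (x : V) = _
        rw [map_smul, hLs])
      (fun x y => by
        change Φ.L (θ (z' y)) ((z' x : U') : V) = _
        rw [hθ3 g hg y (z' y) (hgz y).symm, ← hgz x]
        exact (hL.pres g).1 _ _)
    intro x hx y hy
    rw [← hθ1] at hy
    obtain ⟨y', rfl⟩ := hy
    exact key ⟨x, hx⟩ y'
  -- they meet trivially
  have hinf : U' ⊓ U'' = ⊥ := by
    have h3 := dvd_of_free (F := F) hz'p (fun x hx => eq_zero_of_fixed hp0 hfc hz' hx) (D := U''.comap U'.subtype) (by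
      intro x hx
      change ((z' x : U') : V) ∈ U''
      rw [← hgz x, ← hPU'' g hg]
      exact mem_mv_of_mem hx)
    rw [← hfd, hd'] at h3
    have h4 : finrank F (U''.comap U'.subtype) ≤ finrank F U' := Submodule.finrank_le _
    rcases Nat.eq_zero_or_pos (finrank F (U''.comap U'.subtype)) with h5 | h5
    · have h6 := Submodule.finrank_eq_zero.1 h5
      rw [eq_bot_iff]
      rintro x ⟨hx, hx'⟩
      have h7 : (⟨x, hx⟩ : U') ∈ U''.comap U'.subtype := hx'
      rw [h6, mem_bot] at h7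
      rw [mem_bot]
      exact congrArg Subtype.val h7
    · exfalso
      have h6 : U''.comap U'.subtype = ⊤ :=
        Submodule.eq_top_of_finrank_eq (le_antisymm h4 (Nat.le_of_dvd h5 h3))
      apply hne
      apply Submodule.eq_of_le_of_finrank_eq
      · intro x hx
        have h7 : (⟨x, hx⟩ : U') ∈ U''.comap U'.subtype := by rw [h6]; trivial
        exact h7
      · rw [h1, h2]
  -- the sum
  set T := U' ⊔ U'' with hTd
  have hT : Φ.TI T := hU'.sup hU'' horth
  have hPT : ∀ g ∈ P, mv ρ g T = T := by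
    intro g hg
    rw [mv, hTd, Submodule.map_sup]
    exact congrArg₂ _ (hPU' g hg) (hPU'' g hg)
  have hU'T : U' ≤ T := le_sup_left
  have hU''T : U'' ≤ T := le_sup_right
  have hUC : IsCompl (U'.comap T.subtype) (U''.comap T.subtype) := by
    constructor
    · rw [disjoint_iff, eq_bot_iff]
      rintro x ⟨hx1, hx2⟩
      rw [Submodule.mem_bot]
      apply Subtype.ext
      have h1 : (x : V) ∈ U' ⊓ U'' := ⟨hx1, hx2⟩
      rw [hinf] at h1
      exact (Submodule.mem_bot F).1 h1
    · rw [codisjoint_iff, eq_top_iff]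
      rintro x -
      obtain ⟨u, hu, w, hw, huw⟩ := Submodule.mem_sup.1 x.2
      rw [show x = (⟨u, hU'T hu⟩ : T) + ⟨w, hU''T hw⟩ from Subtype.ext huw.symm]
      exact Submodule.add_mem_sup hu hw
  have hfr : finrank F (U'.comap T.subtype) = finrank F U' := (Submodule.comapSubtypeEquivOfLe hU'T).finrank_eq
  obtain ⟨y, hyQ, hy1, hy2, hy3⟩ := exists_y hpF hf hfc (sylT hL.witt P hT hPT) hUC
    (by
      intro g hg x hx
      obtain ⟨a, ha, hax⟩ := exists_of_mem_sylT hL.witt P hT hPT hg
      change ((g x : T) : V) ∈ U'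
      rw [← hax, ← hPU' a ha]
      exact mem_mv_of_mem hx)
    (by
      intro g hg x hx
      obtain ⟨a, ha, hax⟩ := exists_of_mem_sylT hL.witt P hT hPT hg
      change ((g x : T) : V) ∈ U''
      rw [← hax, ← hPU'' a ha]
      exact mem_mv_of_mem hx)
    (by rw [hfr, hd'])
  obtain ⟨b, hb, hby⟩ := exists_of_mem_sylT hL.witt P hT hPT hyQ
  have hzero : ∀ x : U', x = 0 := by
    intro x
    have h3 : ρ b (x : V) ∈ U' := by
      have h0 : ρ b (x : V) ∈ mv ρ b U' := mem_mv_of_mem x.2
      rwa [hPU' b hb] at h0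
    have h4 := hθ3 b hb x ⟨ρ b (x : V), h3⟩ rfl
    have h5 : θ x ∈ U'' := by rw [← hθ1]; exact ⟨x, rfl⟩
    have h6 : ρ b (θ x) = θ x := by
      have h7 := hby ⟨θ x, hU''T h5⟩
      rw [hy1 _ h5] at h7
      exact h7
    rw [h6] at h4
    have h7 := hθ2 h4
    have h8 : y ⟨x, hU'T x.2⟩ = ⟨x, hU'T x.2⟩ := by
      apply Subtype.ext
      rw [← hby]
      exact congrArg Subtype.val h7
    have h9 := hy3 ⟨x, hU'T x.2⟩ x.2 h8
    have h10 : (x : V) = 0 := congrArg Subtype.val h9
    exact Subtype.ext h10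
  haveI : Subsingleton U' := ⟨fun x y => by rw [hzero x, hzero y]⟩
  have h3 : finrank F U' = 0 := Module.finrank_zero_of_subsingleton
  omega

end Cfsg.Agent.H394.CY
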